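import Groth.Agent.S7969
import Groth.Agent.H20FF.Coinv
import Groth.Agent.H20Comod.DualMod
import Groth.Agent.H20Comod.Reynolds

/-!
Coinvariants of a normal Hopf ideal form a Hopf subalgebra.
-/

set_option autoImplicit false
set_option linter.style.haveILetI false
set_option linter.unusedSectionVars false
set_option backward.isDefEq.respectTransparency false

universe u

open TensorProduct HopfRep
open CategoryTheory MonoidalCategory CartesianMonoidalCategory MonObj
open Groth.Agent.H20Comod

namespace Groth.Agent.H20Normal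

noncomputable section

variable {k A : Type u} [Field k] [CommRing A] [HopfAlgebra k A] (I : Ideal A)

variable (k) in
/-- The functions invariant under right translation by the subgroup. -/
def coinv : Subalgebra k A :=
  AlgHom.equalizer
    ((Algebra.TensorProduct.map (AlgHom.id k A) (Ideal.Quotient.mkₐ k I)).comp (Bialgebra.comulAlgHom k A))
    (Algebra.TensorProduct.includeLeft : A →ₐ[k] A ⊗[k] (A ⧸ I))

variable {I}

theorem mem_coinv {a : A} : a ∈ coinv k I ↔
    (Ideal.Quotient.mkₐ k I).toLinearMap.lTensor A (CoalgebraStruct.comul (R := k) a) = a ⊗ₜ[k] (1 : A ⧸ I) :=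
  Iff.rfl

/-- The generators of the augmentation ideal of the coinvariants lie in the ideal. -/
theorem mem_of_coinv {a : A} (ha : a ∈ coinv k I) (h0 : CoalgebraStruct.counit (R := k) a = 0) : a ∈ I := by
  have h := congrArg (fun t => TensorProduct.lid k (A ⧸ I)
    ((CoalgebraStruct.counit (R := k) (A := A)).rTensor (A ⧸ I) t)) (mem_coinv.1 ha)
  simp only [S7969.rTensor_lTensor_swap] at h
  rw [Coalgebra.rTensor_counit_comul, LinearMap.lTensor_tmul, LinearMap.rTensor_tmul, TensorProduct.lid_tmul,
    TensorProduct.lid_tmul, one_smul, h0, zero_smul] at h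
  exact Ideal.Quotient.eq_zero_iff_mem.1 h

variable [I.IsHopfIdeal k] (hI : SGA3.IsNormalHopfIdeal k A I)

variable (k I) in
/-- The first universal point. -/
abbrev uP : A →ₐ[k] A ⊗[k] (A ⧸ I) := Algebra.TensorProduct.includeLeft

variable (k I) in
/-- The second universal point, lying in the subgroup. -/
abbrev uQ : A →ₐ[k] A ⊗[k] (A ⧸ I) := Algebra.TensorProduct.includeRight.comp (Ideal.Quotient.mkₐ k I)

/-- The product of two points, as an algebra map. -/
abbrev prodPt {R : Type u} [CommRing R] [Algebra k R] (g h : A →ₐ[k] R) : A →ₐ[k] R :=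
  (Algebra.TensorProduct.lift g h fun _ _ => .all _ _).comp (Bialgebra.comulAlgHom k A)

theorem uQ_eq_zero {a : A} (ha : a ∈ I) : uQ k I a = 0 := by
  show (1 : A) ⊗ₜ[k] Ideal.Quotient.mkₐ k I a = 0
  rw [show Ideal.Quotient.mkₐ k I a = 0 from Ideal.Quotient.eq_zero_iff_mem.2 ha, TensorProduct.tmul_zero]

include hI in
theorem exists_right : ∃ h : A ⧸ I →ₐ[k] A ⊗[k] (A ⧸ I),
    prodPt (uP k I) (h.comp (Ideal.Quotient.mkₐ k I)) = prodPt (uQ k I) (uP k I) := by
  let g := (uP k I).comp (HopfAlgebra.antipodeAlgHom k A)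
  let c := Dyn.conv3 k A g (uQ k I) (g.comp (HopfAlgebra.antipodeAlgHom k A))
  refine ⟨Ideal.Quotient.liftₐ I c (hI _ g (uQ k I) fun a ha => uQ_eq_zero ha), CoactBr.pt_injective ?_⟩
  rw [← CoactBr.pt_mul_pt, ← CoactBr.pt_mul_pt,
    show (Ideal.Quotient.liftₐ I c _).comp (Ideal.Quotient.mkₐ k I) = c from AlgHom.ext fun _ => rfl,
    ← S7969.conv3_eq, show CoactBr.pt g = (CoactBr.pt (uP k I))⁻¹ from (CoactBr.pt_inv _).symm, inv_inv,
    ← _root_.mul_assoc, mul_inv_cancel_left]

include hI in
theorem exists_left : ∃ h : A ⧸ I →ₐ[k] A ⊗[k] (A ⧸ I),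
    prodPt (h.comp (Ideal.Quotient.mkₐ k I)) (uP k I) = prodPt (uP k I) (uQ k I) := by
  let c := Dyn.conv3 k A (uP k I) (uQ k I) ((uP k I).comp (HopfAlgebra.antipodeAlgHom k A))
  refine ⟨Ideal.Quotient.liftₐ I c (hI _ (uP k I) (uQ k I) fun a ha => uQ_eq_zero ha), CoactBr.pt_injective ?_⟩
  rw [← CoactBr.pt_mul_pt, ← CoactBr.pt_mul_pt,
    show (Ideal.Quotient.liftₐ I c _).comp (Ideal.Quotient.mkₐ k I) = c from AlgHom.ext fun _ => rfl,
    ← S7969.conv3_eq, inv_mul_cancel_right]

include hI in
/-- For a normal subgroup right invariant functions are left invariant, and conversely. -/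
theorem mem_coinv_iff {a : A} : a ∈ coinv k I ↔
    (Ideal.Quotient.mkₐ k I).toLinearMap.rTensor A (CoalgebraStruct.comul (R := k) a) = (1 : A ⧸ I) ⊗ₜ[k] a := by
  constructor
  · intro ha
    obtain ⟨h, hh⟩ := exists_right hI
    have h1 := AlgHom.congr_fun hh a
    simp only [AlgHom.comp_apply, Bialgebra.comulAlgHom_apply] at h1
    have hz : ∀ z : A ⊗[k] A, Algebra.TensorProduct.lift (uP k I) (h.comp (Ideal.Quotient.mkₐ k I))
        (fun _ _ => .all _ _) z =
        Algebra.TensorProduct.lift (uP k I) h (fun _ _ => .all _ _)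
          ((Ideal.Quotient.mkₐ k I).toLinearMap.lTensor A z) := by
      intro z
      induction z using TensorProduct.induction_on with
      | zero => simp
      | tmul p q => simp
      | add x y hx hy => simp only [map_add, hx, hy]
    rw [hz, mem_coinv.1 ha, Algebra.TensorProduct.lift_tmul, map_one, _root_.mul_one] at h1
    apply (TensorProduct.comm k (A ⧸ I) A).injective
    rw [TensorProduct.comm_tmul]
    refine Eq.trans ?_ h1.symm
    generalize CoalgebraStruct.comul (R := k) a = z
    induction z using TensorProduct.induction_on with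
    | zero => simp
    | tmul p q => simp [Algebra.TensorProduct.tmul_mul_tmul]
    | add x y hx hy => simp only [map_add, hx, hy]
  · intro ha
    obtain ⟨h, hh⟩ := exists_left hI
    have h1 := AlgHom.congr_fun hh a
    simp only [AlgHom.comp_apply, Bialgebra.comulAlgHom_apply] at h1
    have hz : ∀ z : A ⊗[k] A, Algebra.TensorProduct.lift (h.comp (Ideal.Quotient.mkₐ k I)) (uP k I)
        (fun _ _ => .all _ _) z =
        Algebra.TensorProduct.lift h (uP k I) (fun _ _ => .all _ _)
          ((Ideal.Quotient.mkₐ k I).toLinearMap.rTensor A z) := by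
      intro z
      induction z using TensorProduct.induction_on with
      | zero => simp
      | tmul p q => simp
      | add x y hx hy => simp only [map_add, hx, hy]
    rw [hz, ha, Algebra.TensorProduct.lift_tmul, map_one, _root_.one_mul] at h1
    rw [mem_coinv]
    refine Eq.trans ?_ h1.symm
    generalize CoalgebraStruct.comul (R := k) a = z
    induction z using TensorProduct.induction_on with
    | zero => simp
    | tmul p q => simp [Algebra.TensorProduct.tmul_mul_tmul]
    | add x y hx hy => simp only [map_add, hx, hy]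

omit [I.IsHopfIdeal k] in
/-- A comodule map out of any comodule sends vectors fixed by the subgroup to coinvariants. -/
theorem coeff_mem_coinv {V : Type u} [AddCommGroup V] [Module k V] [Comod k A V] {v : V}
    (hv : (Ideal.Quotient.mkₐ k I).toLinearMap.lTensor V (Comod.coact (k := k) (A := A) v) = v ⊗ₜ[k] (1 : A ⧸ I))
    (g : V →ₗ[k] k) : coeff A g v ∈ coinv k I := by
  rw [mem_coinv, show CoalgebraStruct.comul (R := k) (coeff A g v) =
    (coeff A g).rTensor A (Comod.coact (k := k) (A := A) v) from LinearMap.congr_fun (isComodHom_coeff g) v,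
    ← LinearMap.comp_apply, LinearMap.lTensor_comp_rTensor, ← LinearMap.rTensor_comp_lTensor, LinearMap.comp_apply,
    hv, LinearMap.rTensor_tmul]

include hI in
/-- The coinvariants of a normal Hopf ideal form a Hopf subalgebra. -/
theorem isHopfSub_coinv : H20FF.IsHopfSub (coinv k I) := by
  refine ⟨fun a ha => ?_, fun a ha => ?_⟩
  · have h : CoalgebraStruct.comul (R := k) a ∈ LinearMap.range
        (TensorProduct.map (Subalgebra.toSubmodule (coinv k I)).subtype (Subalgebra.toSubmodule (coinv k I)).subtype) := by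
      refine (mem_range_map_subtype_iff (Subalgebra.toSubmodule (coinv k I)) _).2 ⟨fun f => ?_, fun g => ?_⟩
      · show sliceR f (Comod.coact (k := k) (A := A) a) ∈ coinv k I
        rw [← actL_apply, mem_coinv_iff hI, show CoalgebraStruct.comul (R := k) (actL f a) =
          (actL f : A →ₗ[k] A).lTensor A (CoalgebraStruct.comul (R := k) a) from coact_actL f a,
          ← LinearMap.comp_apply, LinearMap.rTensor_comp_lTensor, ← LinearMap.lTensor_comp_rTensor,
          LinearMap.comp_apply, (mem_coinv_iff hI).1 ha, LinearMap.lTensor_tmul]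
      · exact coeff_mem_coinv (V := A) (mem_coinv.1 ha) g
    exact h
  · rw [mem_coinv, H20Comod.comul_antipode]
    let S' : (A ⧸ I) →ₗ[k] A ⧸ I := HopfAlgebra.antipode k
    have hz : ∀ z : A ⊗[k] A, (Ideal.Quotient.mkₐ k I).toLinearMap.lTensor A
        (TensorProduct.map (HopfAlgebra.antipode k) (HopfAlgebra.antipode k) (TensorProduct.comm k A A z)) =
        TensorProduct.map (HopfAlgebra.antipode k) S' (TensorProduct.comm k (A ⧸ I) A
          ((Ideal.Quotient.mkₐ k I).toLinearMap.rTensor A z)) := by
      intro z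
      induction z using TensorProduct.induction_on with
      | zero => simp
      | tmul p q => simp [S']
      | add x y hx hy => simp only [map_add, hx, hy]
    rw [hz, (mem_coinv_iff hI).1 ha, TensorProduct.comm_tmul, TensorProduct.map_tmul]
    congr 1
    exact HopfAlgebra.antipode_one

include hI in
/-- A normal Hopf ideal of a finitely generated Hopf algebra is generated by coinvariants killed by the counit. -/
theorem le_span_coinv_of_finiteType [Algebra.FiniteType k A] :
    I ≤ Ideal.span {a : A | a ∈ coinv k I ∧ CoalgebraStruct.counit (R := k) a = 0} := by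
  obtain ⟨V, _, _, _, _, hV⟩ := S7969.result k A I hI
  refine (hV _).2 fun v => eq_of_forall_sliceL fun g => ?_
  rw [sliceL_lTensor, sliceL_tmul, ← coeff_apply, ← sub_eq_zero,
    show g v • (1 : A ⧸ _) = Ideal.Quotient.mkₐ k _ (algebraMap k A (g v)) by
      rw [AlgHom.commutes, Algebra.algebraMap_eq_smul_one], AlgHom.toLinearMap_apply, ← map_sub]
  refine Ideal.Quotient.eq_zero_iff_mem.2 (Ideal.subset_span
    ⟨sub_mem (coeff_mem_coinv ((hV I).1 le_rfl v) g) (Subalgebra.algebraMap_mem _ _), ?_⟩)
  rw [map_sub, apply_coeff, actL_counit, sub_eq_zero, Bialgebra.counit_algebraMap]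

end

end Groth.Agent.H20Normal
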