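import Groth.Agent.H20Normal.Coinv
import Groth.Agent.H20Comod.LineTensor
import Groth.Agent.H19Grp.PointLift

/-!
A normal Hopf ideal of a commutative Hopf algebra over a field is generated by the augmentation ideal of its
coinvariants; this reduces to finitely generated Hopf algebras, normality being inherited by Hopf subalgebras.
-/

set_option autoImplicit false
set_option linter.style.haveILetI false
set_option linter.unusedSectionVars false

universe u

open TensorProduct
open Groth.Agent.H20Comod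

namespace Groth.Agent.H20Normal

noncomputable section

variable {k : Type u} [Field k] {A D : Type u} [CommRing A] [HopfAlgebra k A] [CommRing D] [HopfAlgebra k D]

/-- The triple product of points commutes with homomorphisms of Hopf algebras. -/
theorem conv3_comp_bialgHom (ι : D →ₐc[k] A) {R : Type u} [CommRing R] [Algebra k R] (f g h : A →ₐ[k] R) :
    (Dyn.conv3 k A f g h).comp (ι : D →ₐ[k] A) =
      Dyn.conv3 k D (f.comp (ι : D →ₐ[k] A)) (g.comp (ι : D →ₐ[k] A)) (h.comp (ι : D →ₐ[k] A)) := by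
  refine AlgHom.ext fun x => ?_
  simp only [Dyn.conv3, AlgHom.comp_apply, Bialgebra.comulAlgHom_apply]
  rw [show CoalgebraStruct.comul (R := k) ((ι : D →ₐ[k] A) x) =
    TensorProduct.map (ι : D →ₗ[k] A) (ι : D →ₗ[k] A) (CoalgebraStruct.comul (R := k) x) from
    (CoalgHomClass.map_comp_comul_apply ι x).symm]
  generalize CoalgebraStruct.comul (R := k) x = z
  induction z using TensorProduct.induction_on with
  | zero => simp
  | tmul p q =>
    simp only [TensorProduct.map_tmul, Algebra.TensorProduct.map_tmul, Algebra.TensorProduct.lmul'_apply_tmul,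
      AlgHom.comp_apply, AlgHom.id_apply, Bialgebra.comulAlgHom_apply]
    congr 1
    rw [show CoalgebraStruct.comul (R := k) ((ι : D →ₗ[k] A) p) =
      TensorProduct.map (ι : D →ₗ[k] A) (ι : D →ₗ[k] A) (CoalgebraStruct.comul (R := k) p) from
      (CoalgHomClass.map_comp_comul_apply ι p).symm]
    generalize CoalgebraStruct.comul (R := k) p = w
    induction w using TensorProduct.induction_on with
    | zero => simp
    | tmul r t => simp
    | add x y hx hy => simp only [map_add, hx, hy]
  | add x y hx hy => simp only [map_add, hx, hy]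

/-- The triple product of points commutes with maps of the test algebra. -/
theorem comp_conv3 {R R' : Type u} [CommRing R] [Algebra k R] [CommRing R'] [Algebra k R'] (j : R →ₐ[k] R')
    (f g h : A →ₐ[k] R) : j.comp (Dyn.conv3 k A f g h) = Dyn.conv3 k A (j.comp f) (j.comp g) (j.comp h) := by
  refine AlgHom.ext fun x => ?_
  simp only [Dyn.conv3, AlgHom.comp_apply, Bialgebra.comulAlgHom_apply]
  generalize CoalgebraStruct.comul (R := k) x = z
  induction z using TensorProduct.induction_on with
  | zero => simp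
  | tmul p q =>
    simp only [Algebra.TensorProduct.map_tmul, Algebra.TensorProduct.lmul'_apply_tmul,
      AlgHom.comp_apply, AlgHom.id_apply, map_mul, Bialgebra.comulAlgHom_apply]
    congr 1
    generalize CoalgebraStruct.comul (R := k) p = w
    induction w using TensorProduct.induction_on with
    | zero => simp
    | tmul r t => simp
    | add x y hx hy => simp only [map_add, hx, hy]
  | add x y hx hy => simp only [map_add, hx, hy]

variable (ι : D →ₐc[k] A) (I : Ideal A) [I.IsHopfIdeal k]

/-- The inverse image of a Hopf ideal is a Hopf ideal. -/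
theorem isHopfIdeal_comap : (I.comap (ι : D →+* A)).IsHopfIdeal k := by
  let J : Ideal D := I.comap (ι : D →+* A)
  let K : Submodule k D := J.restrictScalars k
  let π : A →ₐc[k] A ⧸ I := Bialgebra.Quotient.mkBialgHom I
  let f : D →ₐc[k] A ⧸ I := π.comp ι
  have hK : ∀ x, x ∈ K ↔ f x = 0 := fun x => (Ideal.Quotient.eq_zero_iff_mem (I := I) (a := ι x)).symm
  haveI : K.IsCoideal := by
    refine Submodule.IsCoideal.mk (fun x hx => ?_) (fun x hx => ?_)
    · have h := CoalgHomClass.counit_comp_apply f x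
      rw [← h, (hK x).1 hx, map_zero]
    · let l : D ⧸ K →ₗ[k] A ⧸ I := K.liftQ (f : D →ₗ[k] A ⧸ I) fun y hy => (hK y).1 hy
      have hl : Function.Injective l :=
        LinearMap.ker_eq_bot.1 (Submodule.ker_liftQ_eq_bot _ _ _ fun y hy => (hK y).2 hy)
      have hll : Function.Injective (TensorProduct.map l l) := by
        rw [← LinearMap.lTensor_comp_rTensor, LinearMap.coe_comp]
        exact (Module.Flat.lTensor_preserves_injective_linearMap _ hl).comp
          (Module.Flat.rTensor_preserves_injective_linearMap _ hl)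
      refine hll ?_
      rw [map_zero, ← LinearMap.comp_apply, ← TensorProduct.map_comp, Submodule.liftQ_mkQ]
      refine (CoalgHomClass.map_comp_comul_apply f x).trans ?_
      rw [(hK x).1 hx, map_zero]
  exact { (inferInstance : K.IsCoideal) with
    antipode_mem := fun x hx => by
      show (ι : D →+* A) (HopfAlgebra.antipode k x) ∈ I
      refine Ideal.Quotient.eq_zero_iff_mem.1 ?_
      show f (HopfAlgebra.antipode k x) = 0
      rw [H20FF.map_antipode f x, (hK x).1 hx, map_zero] }

/-- Points of a Hopf subalgebra extend over faithfully flat extensions, and so normality is inherited. -/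
theorem isNormal_comap (hι : Function.Injective ι) (hI : SGA3.IsNormalHopfIdeal k A I) :
    SGA3.IsNormalHopfIdeal k D (I.comap (ι : D →+* A)) := by
  intro R _ _ g h hh a ha
  letI : Algebra D A := (ι : D →+* A).toAlgebra
  haveI : IsScalarTower k D A := IsScalarTower.of_algebraMap_eq fun r => ((ι : D →ₐ[k] A).commutes r).symm
  haveI := H20FF.faithfullyFlat_of_injective ι hι fun _ => rfl
  letI : Algebra D R := (g : D →+* R).toAlgebra
  haveI : IsScalarTower k D R := IsScalarTower.of_algebraMap_eq fun r => (g.commutes r).symm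
  let R1 := A ⊗[D] R
  let g1 : A →ₐ[k] R1 := Algebra.TensorProduct.includeLeft
  let j1 : R →ₐ[k] R1 := (Algebra.TensorProduct.includeRight : R →ₐ[D] R1).restrictScalars k
  have hj1 : Function.Injective j1 := Module.FaithfullyFlat.tensorProduct_mk_injective (A := D) (B := A) R
  have hg1 : g1.comp (ι : D →ₐ[k] A) = j1.comp g := AlgHom.ext fun d => by
    show algebraMap D A d ⊗ₜ[D] (1 : R) = (1 : A) ⊗ₜ[D] algebraMap D R d
    rw [Algebra.algebraMap_eq_smul_one, TensorProduct.smul_tmul, Algebra.algebraMap_eq_smul_one]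
  let π : A →ₐc[k] A ⧸ I := Bialgebra.Quotient.mkBialgHom I
  let f : D →ₐc[k] A ⧸ I := π.comp ι
  let C : Subalgebra k (A ⧸ I) := (f : D →ₐ[k] A ⧸ I).range
  haveI : Module.FaithfullyFlat C (A ⧸ I) := H20FF.faithfullyFlat_subalgebra (H20FF.isHopfSub_range f)
  have hker : ∀ d ∈ RingHom.ker (f : D →ₐ[k] A ⧸ I), j1 (h d) = 0 := fun d hd => by
    rw [hh d ((Ideal.Quotient.eq_zero_iff_mem (I := I) (a := ι d)).1 hd), map_zero]
  let hbar : C →ₐ[k] R1 := (Ideal.Quotient.liftₐ (RingHom.ker (f : D →ₐ[k] A ⧸ I)) (j1.comp h) hker).comp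
    (Ideal.quotientKerEquivRange (f : D →ₐ[k] A ⧸ I)).symm.toAlgHom
  have hhbar : ∀ d, hbar ⟨f d, ⟨d, rfl⟩⟩ = j1 (h d) := fun d => by
    have e : (Ideal.quotientKerEquivRange (f : D →ₐ[k] A ⧸ I)).symm ⟨f d, ⟨d, rfl⟩⟩ = Ideal.Quotient.mk _ d :=
      (Ideal.quotientKerEquivRange (f : D →ₐ[k] A ⧸ I)).symm_apply_eq.mpr rfl
    show Ideal.Quotient.liftₐ _ (j1.comp h) hker ((Ideal.quotientKerEquivRange (f : D →ₐ[k] A ⧸ I)).symm _) = _
    rw [e]
    rfl
  letI : Algebra C R1 := (hbar : C →+* R1).toAlgebra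
  haveI : IsScalarTower k C R1 := IsScalarTower.of_algebraMap_eq fun r => (hbar.commutes r).symm
  let R2 := (A ⧸ I) ⊗[C] R1
  let h2 : A →ₐ[k] R2 := (Algebra.TensorProduct.includeLeft : A ⧸ I →ₐ[k] R2).comp (Ideal.Quotient.mkₐ k I)
  let j2 : R1 →ₐ[k] R2 := (Algebra.TensorProduct.includeRight : R1 →ₐ[C] R2).restrictScalars k
  have hj2 : Function.Injective j2 := Module.FaithfullyFlat.tensorProduct_mk_injective (A := C) (B := A ⧸ I) R1
  have hh2 : h2.comp (ι : D →ₐ[k] A) = (j2.comp j1).comp h := AlgHom.ext fun d => by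
    show algebraMap C (A ⧸ I) ⟨f d, ⟨d, rfl⟩⟩ ⊗ₜ[C] (1 : R1) = (1 : A ⧸ I) ⊗ₜ[C] j1 (h d)
    rw [← hhbar, show hbar ⟨f d, ⟨d, rfl⟩⟩ = algebraMap C R1 ⟨f d, ⟨d, rfl⟩⟩ from rfl,
      Algebra.algebraMap_eq_smul_one, TensorProduct.smul_tmul, Algebra.algebraMap_eq_smul_one]
  have hanti : (HopfAlgebra.antipodeAlgHom k A).comp (ι : D →ₐ[k] A) =
      (ι : D →ₐ[k] A).comp (HopfAlgebra.antipodeAlgHom k D) :=
    AlgHom.ext fun d => (H20FF.map_antipode ι d).symm
  have key := hI R2 (j2.comp g1) h2 (fun x hx => by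
    show (Ideal.Quotient.mkₐ k I x) ⊗ₜ[C] (1 : R1) = 0
    rw [show Ideal.Quotient.mkₐ k I x = 0 from Ideal.Quotient.eq_zero_iff_mem.2 hx, TensorProduct.zero_tmul])
    (ι a) ha
  refine (injective_iff_map_eq_zero (j2.comp j1)).1 (hj2.comp hj1) _ ?_
  show (j2.comp j1) _ = 0
  rw [← AlgHom.comp_apply, comp_conv3, ← hh2,
    show (j2.comp j1).comp g = (j2.comp g1).comp (ι : D →ₐ[k] A) by rw [AlgHom.comp_assoc, ← hg1, AlgHom.comp_assoc],
    show (j2.comp j1).comp (g.comp (HopfAlgebra.antipodeAlgHom k D)) =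
      ((j2.comp g1).comp (HopfAlgebra.antipodeAlgHom k A)).comp (ι : D →ₐ[k] A) by
      simp only [AlgHom.comp_assoc, hanti]; simp only [← AlgHom.comp_assoc]; rw [AlgHom.comp_assoc j2 g1, hg1]; simp only [AlgHom.comp_assoc],
    ← conv3_comp_bialgHom]
  exact key

/-- Coinvariants of the inverse image map to coinvariants. -/
theorem map_coinv_comap {d : D} (hd : d ∈ coinv k (I.comap (ι : D →+* A))) : ι d ∈ coinv k I := by
  let l : D ⧸ I.comap (ι : D →+* A) →ₐ[k] A ⧸ I :=
    Ideal.Quotient.liftₐ _ ((Ideal.Quotient.mkₐ k I).comp (ι : D →ₐ[k] A)) fun x hx =>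
      Ideal.Quotient.eq_zero_iff_mem.2 hx
  have h := congrArg (TensorProduct.map (ι : D →ₗ[k] A) l.toLinearMap) (mem_coinv.1 hd)
  rw [TensorProduct.map_tmul, show l.toLinearMap 1 = 1 from map_one l] at h
  rw [mem_coinv, show CoalgebraStruct.comul (R := k) (ι d) =
    TensorProduct.map (ι : D →ₗ[k] A) (ι : D →ₗ[k] A) (CoalgebraStruct.comul (R := k) d) from
    (CoalgHomClass.map_comp_comul_apply ι d).symm]
  refine Eq.trans ?_ h
  generalize CoalgebraStruct.comul (R := k) d = z
  induction z using TensorProduct.induction_on with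
  | zero => simp
  | tmul p q => rfl
  | add x y hx hy => simp only [map_add, hx, hy]

variable {I} (hI : SGA3.IsNormalHopfIdeal k A I)

include hI in
/-- A normal Hopf ideal is generated by the coinvariants killed by the counit. -/
theorem le_span_coinv : I ≤ Ideal.span {a : A | a ∈ coinv k I ∧ CoalgebraStruct.counit (R := k) a = 0} := by
  intro a ha
  obtain ⟨E, hE, hEfg, haE⟩ := H19Grp.PointLift.exists_fg_hopfSub (k := k) (Set.finite_singleton a)
  letI := H20FF.subHopf hE
  let v : E →ₐc[k] A := H20FF.subVal hE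
  haveI : Algebra.FiniteType k E := (Subalgebra.fg_iff_finiteType E).mp hEfg
  haveI := isHopfIdeal_comap v I
  have h1 : (⟨a, haE rfl⟩ : E) ∈ I.comap (v : E →+* A) := ha
  have h2 := Ideal.mem_map_of_mem (v : E →+* A)
    (le_span_coinv_of_finiteType (isNormal_comap v I Subtype.val_injective hI) h1)
  rw [Ideal.map_span] at h2
  refine Ideal.span_mono ?_ h2
  rintro _ ⟨s, ⟨hs, hs0⟩, rfl⟩
  exact ⟨map_coinv_comap v I hs, (CoalgHomClass.counit_comp_apply v s).trans hs0⟩

end

end Groth.Agent.H20Normal
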